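import Groth.Prelude.Def_GrTwist

/-!
# Adjunct along an open immersion
-/

set_option autoImplicit false
set_option backward.isDefEq.respectTransparency.types false

namespace Groth.Agent.PEvBij8

open CategoryTheory AlgebraicGeometry TopologicalSpace Opposite

universe u

variable {X Y : Scheme.{u}} (f : X ⟶ Y) [IsOpenImmersion f]

/-- The adjunct `f^* M ⟶ N` of `θ : M ⟶ f_* N` along an open immersion is an isomorphism as soon as `θ` is
bijective on sections over opens contained in the image. -/
theorem isIso_adjunct_of_bijective {M : Y.Modules} {N : X.Modules}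
    (θ : M ⟶ (Scheme.Modules.pushforward f).obj N)
    (h : ∀ U : Y.Opens, U ≤ f.opensRange → Function.Bijective (θ.app U)) :
    IsIso (((Scheme.Modules.pullbackPushforwardAdjunction f).homEquiv _ _).symm θ) := by
  have hres : IsIso ((Scheme.Modules.restrictFunctor f).map θ) := by
    rw [Scheme.Modules.Hom.isIso_iff_isIso_app]
    intro V
    rw [ConcreteCategory.isIso_iff_bijective]
    exact h (f ''ᵁ V) (f.image_le_opensRange V)
  have h1 : IsIso (((Scheme.Modules.restrictAdjunction f).homEquiv _ _).symm θ) := by
    rw [Adjunction.homEquiv_counit]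
    infer_instance
  have e : ((Scheme.Modules.restrictAdjunction f).homEquiv _ _).symm θ =
      (Scheme.Modules.restrictFunctorIsoPullback f).hom.app M ≫
        ((Scheme.Modules.pullbackPushforwardAdjunction f).homEquiv _ _).symm θ := by
    apply ((Scheme.Modules.restrictAdjunction f).homEquiv _ _).injective
    rw [Equiv.apply_symm_apply, Adjunction.homEquiv_naturality_right]
    dsimp only [Scheme.Modules.restrictFunctorIsoPullback]
    erw [Adjunction.homEquiv_leftAdjointUniq_hom_app]
    rw [← Adjunction.homEquiv_unit, Equiv.apply_symm_apply]
  rw [e] at h1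
  exact IsIso.of_isIso_comp_left ((Scheme.Modules.restrictFunctorIsoPullback f).hom.app M) _

end Groth.Agent.PEvBij8
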