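import Groth.Agent.PEvBij8.Adjunct

/-!
# When `GrTwist.comap` is bijective
-/

set_option autoImplicit false
set_option backward.isDefEq.respectTransparency.types false

namespace Groth.Agent.PEvBij8

open CategoryTheory AlgebraicGeometry TopologicalSpace Opposite
open scoped HomogeneousIdeal

universe u

variable {A σ : Type u} [CommRing A] [SetLike σ A] [AddSubgroupClass σ A] {𝒜 : ℕ → σ} [GradedRing 𝒜]

/-- Every degree-`n` fraction is a single fraction. -/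
theorem exists_frac_of_mem_twistAt {n : ℤ} {x : ProjectiveSpectrum 𝒜} {q : GrTwist.Loc 𝒜 x}
    (hq : q ∈ GrTwist.twistAt 𝒜 n x) :
    ∃ (i j : ℕ) (a : 𝒜 i) (s : 𝒜 j) (hs : (s : A) ∉ x.asHomogeneousIdeal),
      ((i : ℤ) = j + n ∨ (a : A) = 0) ∧ q = Localization.mk (a : A) ⟨s, hs⟩ := by
  induction hq using Submodule.span_induction with
  | mem q h =>
    obtain ⟨i, j, a, s, hs, hij, rfl⟩ := h
    exact ⟨i, j, a, s, hs, Or.inl hij, rfl⟩
  | zero =>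
    exact ⟨0, 0, 0, ⟨1, SetLike.GradedOne.one_mem⟩,
      fun h => x.isPrime.ne_top ((Ideal.eq_top_iff_one _).mpr h), Or.inr rfl,
      by simp [Localization.mk_zero]⟩
  | add q q' _ _ h h' =>
    obtain ⟨i, j, a, s, hs, ha, rfl⟩ := h
    obtain ⟨i', j', b, t, ht, hb, rfl⟩ := h'
    rcases eq_or_ne (a : A) 0 with h0 | h0
    · refine ⟨i', j', b, t, ht, hb, ?_⟩
      rw [h0, Localization.mk_zero, zero_add]
    rcases eq_or_ne (b : A) 0 with h1 | h1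
    · refine ⟨i, j, a, s, hs, ha, ?_⟩
      rw [h1, Localization.mk_zero, add_zero]
    have ha' := ha.resolve_right h0
    have hb' := hb.resolve_right h1
    have e : j' + i = j + i' := by omega
    refine ⟨j + i', j + j', ⟨s * b + t * a, add_mem (SetLike.mul_mem_graded s.2 b.2)
        (e ▸ SetLike.mul_mem_graded t.2 a.2)⟩, ⟨s * t, SetLike.mul_mem_graded s.2 t.2⟩,
      fun h => (x.isPrime.mem_or_mem h).elim hs ht, Or.inl (by push_cast; omega), ?_⟩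
    rw [Localization.add_mk]
    rfl
  | smul c q _ h =>
    obtain ⟨i, j, a, s, hs, ha, rfl⟩ := h
    obtain ⟨⟨k, ⟨r, hr⟩, ⟨t, ht⟩, htx⟩, rfl⟩ := HomogeneousLocalization.mk_surjective c
    refine ⟨k + i, k + j, ⟨r * a, SetLike.mul_mem_graded hr a.2⟩,
      ⟨t * s, SetLike.mul_mem_graded ht s.2⟩, fun h => (x.isPrime.mem_or_mem h).elim htx hs, ?_, ?_⟩
    · rcases ha with ha | ha
      · exact Or.inl (by push_cast; omega)
      · exact Or.inr (show r * a = 0 by rw [ha, mul_zero])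
    · rw [Algebra.smul_def, HomogeneousLocalization.algebraMap_apply, HomogeneousLocalization.val_mk,
        Localization.mk_mul]
      rfl

variable {B τ : Type u} [CommRing B] [SetLike τ B] [AddSubgroupClass τ B] {ℬ : ℕ → τ} [GradedRing ℬ]
  (ψ : 𝒜 →+*ᵍ ℬ) (hψ : ℬ₊ ≤ (𝒜₊).map ψ)
  (H1 : ∀ (y : ProjectiveSpectrum ℬ) (i : ℕ) (b : B), b ∈ ℬ i → ∃ (e : ℕ) (p a : A),
    p ∈ 𝒜 e ∧ a ∈ 𝒜 (i + e) ∧ ψ p ∉ y.asHomogeneousIdeal ∧ ψ a = ψ p * b)
  (H2 : ∀ (y : ProjectiveSpectrum ℬ) (i : ℕ) (a : A), a ∈ 𝒜 i → ψ a = 0 → ∃ q : A,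
    ψ q ∉ y.asHomogeneousIdeal ∧ q * a = 0)

include H1 H2 in
theorem locMap_eq_zero {n : ℤ} (y : ProjectiveSpectrum ℬ)
    {q : GrTwist.Loc 𝒜 (ProjectiveSpectrum.comap ψ hψ y)}
    (hq : q ∈ GrTwist.twistAt 𝒜 n (ProjectiveSpectrum.comap ψ hψ y))
    (h0 : GrTwist.locMap ψ hψ y q = 0) : q = 0 := by
  classical
  obtain ⟨i, j, ⟨a, ha⟩, ⟨s, hs'⟩, hs, -, rfl⟩ := exists_frac_of_mem_twistAt hq
  rw [GrTwist.locMap_mk, Localization.mk_eq_mk', IsLocalization.mk'_eq_zero_iff] at h0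
  obtain ⟨⟨t, ht⟩, hta⟩ := h0
  replace hta : t * ψ a = 0 := hta
  have hmem : ψ a ∈ ℬ i := ψ.map_mem ha
  obtain ⟨k, hk⟩ : ∃ k, (DirectSum.decompose ℬ t k : B) ∉ y.asHomogeneousIdeal := by
    by_contra! hcon
    exact ht (by
      rw [← DirectSum.sum_support_decompose ℬ t]
      exact Ideal.sum_mem _ fun k _ => hcon k)
  have htk : (DirectSum.decompose ℬ t k : B) * ψ a = 0 := by
    rw [← DirectSum.coe_decompose_mul_add_of_right_mem (i := k) ℬ hmem, hta, DirectSum.decompose_zero]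
    rfl
  obtain ⟨e, p, a', -, ha', hp, hpa⟩ := H1 y k _ (DirectSum.decompose ℬ t k).2
  obtain ⟨r, hr, hra⟩ := H2 y (k + e + i) (a' * a) (SetLike.mul_mem_graded ha' ha)
    (by rw [map_mul, hpa, mul_assoc, htk, mul_zero])
  rw [Localization.mk_eq_mk', IsLocalization.mk'_eq_zero_iff]
  refine ⟨⟨r * a', fun h => ?_⟩, by simpa [mul_assoc] using hra⟩
  have h' : ψ (r * a') ∈ y.asHomogeneousIdeal := h
  rw [map_mul, hpa] at h'
  rcases y.isPrime.mem_or_mem h' with h'' | h''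
  · exact hr h''
  · exact (y.isPrime.mem_or_mem h'').elim hp hk

include H1 H2 in
theorem locMap_injOn {n : ℤ} (y : ProjectiveSpectrum ℬ)
    {q q' : GrTwist.Loc 𝒜 (ProjectiveSpectrum.comap ψ hψ y)}
    (hq : q ∈ GrTwist.twistAt 𝒜 n (ProjectiveSpectrum.comap ψ hψ y))
    (hq' : q' ∈ GrTwist.twistAt 𝒜 n (ProjectiveSpectrum.comap ψ hψ y))
    (h : GrTwist.locMap ψ hψ y q = GrTwist.locMap ψ hψ y q') : q = q' :=
  sub_eq_zero.mp (locMap_eq_zero ψ hψ H1 H2 y (sub_mem hq hq') (by rw [map_sub, h, sub_self]))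

include H1 in
/-- A local fraction on `Proj ℬ` comes from a fraction on `Proj 𝒜`, after shrinking. -/
theorem exists_frac_lift {n : ℤ} (y : ProjectiveSpectrum ℬ) {i j : ℕ} (b : ℬ i) (t : ℬ j)
    (ht : (t : B) ∉ y.asHomogeneousIdeal) (hn : (i : ℤ) = j + n ∨ (b : B) = 0) :
    ∃ (i' j' : ℕ) (a : 𝒜 i') (s : 𝒜 j'), ψ (s : A) ∉ y.asHomogeneousIdeal ∧
      ((i' : ℤ) = j' + n ∨ (a : A) = 0) ∧ ψ (s : A) * (b : B) = (t : B) * ψ (a : A) := by
  obtain ⟨e, p, a, hp', ha', hp, hpa⟩ := H1 y j t t.2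
  rcases eq_or_ne (b : B) 0 with hb | hb
  · refine ⟨0, j + e, 0, ⟨a, ha'⟩, fun h => ?_, Or.inr rfl, by simp [hb]⟩
    rw [hpa] at h
    exact (y.isPrime.mem_or_mem h).elim hp ht
  obtain ⟨e', p', a', hp₁', ha₁', hp₁, hpa₁⟩ := H1 y i b b.2
  refine ⟨i + e' + e, j + e + e', ⟨a' * p, SetLike.mul_mem_graded ha₁' hp'⟩,
    ⟨a * p', SetLike.mul_mem_graded ha' hp₁'⟩, fun h => ?_, Or.inl ?_, ?_⟩
  · rw [map_mul, hpa] at h
    rcases y.isPrime.mem_or_mem h with h | h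
    · exact (y.isPrime.mem_or_mem h).elim hp ht
    · exact hp₁ h
  · have := hn.resolve_right hb
    push_cast; omega
  · simp only [map_mul, hpa, hpa₁]; ring

include H1 H2 in
/-- `GrTwist.comap` is bijective on opens contained in the image of an open immersion `Proj.map ψ`. -/
theorem comap_app_bijective [IsOpenImmersion (Proj.map ψ hψ)] (n : ℤ) (U : (Proj 𝒜).Opens)
    (hU : U ≤ (Proj.map ψ hψ).opensRange) : Function.Bijective ((GrTwist.comap ψ hψ n).app U) := by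
  have hinj : Function.Injective (ProjectiveSpectrum.comap ψ hψ) :=
    (Proj.map ψ hψ).isOpenEmbedding.injective
  have hrange : ∀ x : U, ∃ y : ProjectiveSpectrum ℬ, ProjectiveSpectrum.comap ψ hψ y = x.1 := fun x =>
    hU x.2
  constructor
  · intro s s' h
    refine Subtype.ext (funext fun x => Subtype.ext ?_)
    obtain ⟨y, hy⟩ := hrange x
    obtain ⟨x, hx⟩ := x
    obtain rfl : ProjectiveSpectrum.comap ψ hψ y = x := hy
    have e := congrArg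
      (fun r : GrTwist.sectN (𝒜 := ℬ) n (op (Proj.map ψ hψ ⁻¹ᵁ U)) => ((r.1 ⟨y, hx⟩ : _) : GrTwist.Loc ℬ y)) h
    exact locMap_injOn ψ hψ H1 H2 y (s.1 ⟨_, hx⟩).2 (s'.1 ⟨_, hx⟩).2 e
  · intro t
    have hpt : ∀ x : U, ∃ q : GrTwist.twistAt 𝒜 n x.1, ∀ (y : ProjectiveSpectrum ℬ)
        (hy : ProjectiveSpectrum.comap ψ hψ y = x.1),
        GrTwist.locMap ψ hψ y (hy.symm ▸ q : GrTwist.twistAt 𝒜 n (ProjectiveSpectrum.comap ψ hψ y)).1 =
          ((t : GrTwist.sectN (𝒜 := ℬ) n (op (Proj.map ψ hψ ⁻¹ᵁ U))).1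
            ⟨y, (congrArg (· ∈ U) hy).mpr x.2⟩).1 := by
      intro x
      obtain ⟨y, hy⟩ := hrange x
      obtain ⟨x, hx⟩ := x
      obtain rfl : ProjectiveSpectrum.comap ψ hψ y = x := hy
      obtain ⟨W, hW, iW, i, j, b, s, hs, hn, hfrac⟩ :=
        (t : GrTwist.sectN (𝒜 := ℬ) n (op (Proj.map ψ hψ ⁻¹ᵁ U))).2 ⟨y, hx⟩
      obtain ⟨i', j', a, s', hs', hn', heq⟩ := exists_frac_lift ψ H1 y b s (hs ⟨y, hW⟩) hn
      have hmem : Localization.mk (a : A) ⟨(s' : A), hs'⟩ ∈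
          GrTwist.twistAt 𝒜 n (ProjectiveSpectrum.comap ψ hψ y) := by
        rcases hn' with h | h
        · exact Submodule.subset_span ⟨i', j', a, s', hs', h, rfl⟩
        · rw [h, Localization.mk_zero]; exact zero_mem _
      refine ⟨⟨_, hmem⟩, fun y' hy' => ?_⟩
      obtain rfl : y' = y := hinj hy'
      refine (GrTwist.locMap_mk ψ hψ _ _ _).trans (Eq.trans ?_ (hfrac ⟨y', hW⟩).symm)
      rw [Localization.mk_eq_mk_iff, Localization.r_iff_exists]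
      exact ⟨1, by simpa [mul_comm] using heq.symm⟩
    choose q hq using hpt
    refine ⟨(⟨q, ?_⟩ : GrTwist.sectN (𝒜 := 𝒜) n (op U)), Subtype.ext (funext fun y => Subtype.ext (hq ⟨_, y.2⟩ y.1 rfl))⟩
    intro x
    obtain ⟨y, hy⟩ := hrange x
    obtain ⟨x, hx⟩ := x
    obtain rfl : ProjectiveSpectrum.comap ψ hψ y = x := hy
    obtain ⟨W, hW, iW, i, j, b, s, hs, hn, hfrac⟩ :=
      (t : GrTwist.sectN (𝒜 := ℬ) n (op (Proj.map ψ hψ ⁻¹ᵁ U))).2 ⟨y, hx⟩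
    obtain ⟨i', j', a, s', hs', hn', heq⟩ := exists_frac_lift ψ H1 y b s (hs ⟨y, hW⟩) hn
    let W' : (Proj ℬ).Opens := W ⊓ Proj.basicOpen ℬ (ψ (s' : A))
    have hW'U : ∀ z : (Proj.map ψ hψ ''ᵁ W' : (Proj 𝒜).Opens), z.1 ∈ U := by
      rintro ⟨_, z, hz, rfl⟩
      exact iW.le hz.1
    refine ⟨Proj.map ψ hψ ''ᵁ W', ⟨y, ⟨hW, hs'⟩, rfl⟩, homOfLE fun z hz => hW'U ⟨z, hz⟩, i', j', a, s',
      ?_, hn', ?_⟩
    · rintro ⟨_, z, hz, rfl⟩
      exact hz.2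
    · rintro ⟨_, z, hz, rfl⟩
      change ((q ⟨ProjectiveSpectrum.comap ψ hψ z, _⟩ : GrTwist.twistAt 𝒜 n _) :
        GrTwist.Loc 𝒜 (ProjectiveSpectrum.comap ψ hψ z)) = _
      have hzU : ProjectiveSpectrum.comap ψ hψ z ∈ U := hW'U ⟨_, z, hz, rfl⟩
      refine locMap_injOn ψ hψ H1 H2 z (q ⟨_, hzU⟩).2 ?_
        (Eq.trans (hq ⟨_, hzU⟩ z rfl) ?_)
      · rcases hn' with h | h
        · exact Submodule.subset_span ⟨i', j', a, s', hz.2, h, rfl⟩
        · rw [h, Localization.mk_zero]; exact zero_mem _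
      · refine Eq.trans (hfrac ⟨z, hz.1⟩) (Eq.trans ?_ (GrTwist.locMap_mk ψ hψ _ _ _).symm)
        rw [Localization.mk_eq_mk_iff, Localization.r_iff_exists]
        exact ⟨1, by simpa [mul_comm] using heq⟩

include H1 H2 in
/-- The adjunct `θ : Proj(ψ)^* O(n) ⟶ O(n)` is an isomorphism. -/
theorem isIso_comap_adjunct [IsOpenImmersion (Proj.map ψ hψ)] (n : ℤ) :
    IsIso (((Scheme.Modules.pullbackPushforwardAdjunction (Proj.map ψ hψ)).homEquiv _ _).symm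
      (GrTwist.comap ψ hψ n)) :=
  isIso_adjunct_of_bijective _ _ (comap_app_bijective ψ hψ H1 H2 n)

end Groth.Agent.PEvBij8
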