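import Groth.Agent.PEvBij8.Dom
import Groth.Agent.PEvBij8.TwistIso

/-!
# Eventually bijective maps and localisations in degree zero
-/

set_option autoImplicit false
set_option backward.isDefEq.respectTransparency.types false

namespace Groth.Agent.PEvBij8

open CategoryTheory CategoryTheory.Limits AlgebraicGeometry HomogeneousLocalization TopologicalSpace Opposite
open scoped HomogeneousIdeal
open Groth.Agent.ProjLib

universe u

variable {R A B : Type u} [CommRing R] [CommRing A] [Algebra R A] {𝒜 : ℕ → Submodule R A}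
  [GradedAlgebra 𝒜] [CommRing B] [Algebra R B] {ℬ : ℕ → Submodule R B} [GradedAlgebra ℬ]
  (ψ : 𝒜 →+*ᵍ ℬ) (hψ : ℬ₊ ≤ (𝒜₊).map ψ)

section Eventually

variable (d₀ : ℕ) (hbij : ∀ d : ℕ, d₀ ≤ d → Set.BijOn ψ (𝒜 d) (ℬ d))

include hψ in
lemma exists_pos_notMem (y : ProjectiveSpectrum ℬ) :
    ∃ (e : ℕ) (r : A), 0 < e ∧ r ∈ 𝒜 e ∧ ψ r ∉ y.asHomogeneousIdeal := by
  obtain ⟨i, hi⟩ := (Proj.affineOpenCover 𝒜).openCover.exists_eq (Proj.map ψ hψ y)
  refine ⟨i.1, i.2, i.1.2, i.2.2, ?_⟩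
  have hx : Proj.map ψ hψ y ∈ Proj.basicOpen 𝒜 (i.2 : A) := by
    rw [← Proj.opensRange_awayι 𝒜 _ i.2.2 i.1.2]
    exact hi
  exact hx

include hbij in
lemma isIso_map : IsIso (Proj.map ψ hψ) := by
  refine map_property ψ hψ (P := MorphismProperty.isomorphisms Scheme) fun _ s hd hs => ?_
  have : IsIso (CommRingCat.ofHom (Away.map ψ s : Away 𝒜 s →+* Away ℬ (ψ s))) := by
    rw [ConcreteCategory.isIso_iff_bijective]
    exact away_map_bijective_of_bijOn ψ d₀ hbij hd hs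
  exact inferInstanceAs (IsIso (Spec.map _))

include hbij in
lemma isIso_comap_adjunct_of_eventually (n : ℤ) :
    IsIso (((Scheme.Modules.pullbackPushforwardAdjunction (Proj.map ψ hψ)).homEquiv _ _).symm
      (GrTwist.comap ψ hψ n)) := by
  have := isIso_map ψ hψ d₀ hbij
  refine isIso_comap_adjunct ψ hψ (fun y i b hb => ?_) (fun y i a ha h0 => ?_) n
  · obtain ⟨e, r, he, hr, hry⟩ := exists_pos_notMem ψ hψ y
    have hd : d₀ ≤ i + d₀ * e := le_trans (Nat.le_mul_of_pos_right _ he) (Nat.le_add_left _ _)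
    have hp : r ^ d₀ ∈ 𝒜 (d₀ * e) := by simpa using SetLike.pow_mem_graded d₀ hr
    obtain ⟨a, ha, hab⟩ := (hbij _ hd).surjOn (show ψ (r ^ d₀) * b ∈ ℬ (i + d₀ * e) by
      rw [add_comm]; exact SetLike.mul_mem_graded (ψ.map_mem hp) hb)
    refine ⟨d₀ * e, r ^ d₀, a, hp, ha, fun h => ?_, hab⟩
    rw [map_pow] at h
    exact hry (y.isPrime.mem_of_pow_mem _ h)
  · obtain ⟨e, r, he, hr, hry⟩ := exists_pos_notMem ψ hψ y
    refine ⟨r ^ d₀, fun h => ?_, ?_⟩
    · rw [map_pow] at h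
      exact hry (y.isPrime.mem_of_pow_mem _ h)
    · have hp : r ^ d₀ ∈ 𝒜 (d₀ * e) := by simpa using SetLike.pow_mem_graded d₀ hr
      have hd : d₀ ≤ d₀ * e + i := le_trans (Nat.le_mul_of_pos_right _ he) (Nat.le_add_right _ _)
      exact (hbij _ hd).injOn (SetLike.mul_mem_graded hp ha) (zero_mem _)
        (by simp [h0])

end Eventually

section Localization

variable {g : A} (hg : g ∈ 𝒜 0) [Algebra A B] (hψA : ∀ a : A, ψ a = algebraMap A B a)
  [IsLocalization.Away g B]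
  (hdeg : ∀ (n : ℕ) (b : B), b ∈ ℬ n ↔ ∃ (k : ℕ) (a : A), a ∈ 𝒜 n ∧ ψ g ^ k * b = ψ a)

/-- `g / 1`. -/
abbrev gElem {d : ℕ} {f : A} (hf : f ∈ 𝒜 d) : Away 𝒜 f := Away.mk 𝒜 hf 0 g (by simpa using hg)

include hψA in
lemma isUnit_psi_g : IsUnit (ψ g) := by
  rw [hψA]; exact IsLocalization.Away.algebraMap_isUnit g

include hψA in
lemma psi_g_notMem (y : ProjectiveSpectrum ℬ) : ψ g ∉ y.asHomogeneousIdeal := fun h =>
  y.isPrime.ne_top (Ideal.eq_top_of_isUnit_mem _ h (isUnit_psi_g (g := g) ψ hψA))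

include hψA hdeg in
lemma isLocalization_gElem {d : ℕ} {f : A} (hf : f ∈ 𝒜 d) :
    @IsLocalization.Away _ _ (gElem hg hf) (Away ℬ (ψ f)) _ (Away.map ψ f).toAlgebra := by
  letI := (Away.map ψ f).toAlgebra
  obtain ⟨v, hv⟩ := isUnit_psi_g (g := g) ψ hψA
  have hv0 : (↑v⁻¹ : B) ∈ ℬ 0 := by
    refine (hdeg 0 _).2 ⟨1, 1, SetLike.GradedOne.one_mem, ?_⟩
    rw [pow_one, ← hv, Units.mul_inv, map_one]
  refine IsLocalization.Away.mk (gElem hg hf) ?_ ?_ ?_
  · refine IsUnit.of_mul_eq_one (Away.mk ℬ (show ψ f ∈ ℬ d from ψ.map_mem hf) 0 (↑v⁻¹ : B)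
      (by simpa using hv0)) ?_
    apply HomogeneousLocalization.val_injective
    rw [HomogeneousLocalization.val_mul, RingHom.algebraMap_toAlgebra, Away.map_mk ψ f hf, Away.val_mk,
      Away.val_mk, HomogeneousLocalization.val_one, Localization.mk_mul, ← Localization.mk_one,
      Localization.mk_eq_mk_iff, Localization.r_iff_exists]
    exact ⟨1, by simp [← hv]⟩
  · intro y
    obtain ⟨m, b, hb, rfl⟩ := Away.mk_surjective ℬ (show ψ f ∈ ℬ d from ψ.map_mem hf) y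
    obtain ⟨k, a, ha, hka⟩ := (hdeg _ b).1 hb
    refine ⟨k, Away.mk 𝒜 hf m a ha, ?_⟩
    apply HomogeneousLocalization.val_injective
    rw [HomogeneousLocalization.val_mul, HomogeneousLocalization.val_pow, RingHom.algebraMap_toAlgebra,
      Away.map_mk ψ f hf, Away.map_mk ψ f hf, Away.val_mk, Away.val_mk, Away.val_mk, Localization.mk_pow,
      Localization.mk_mul, Localization.mk_eq_mk_iff, Localization.r_iff_exists]
    exact ⟨1, by simp [← hka]; ring⟩
  · intro x x' h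
    obtain ⟨m, a, ha, hx⟩ := Away.mk_surjective 𝒜 hf (x - x')
    have h0 : Away.map ψ f (x - x') = 0 := by
      rw [map_sub, ← RingHom.algebraMap_toAlgebra (Away.map ψ f)]
      exact sub_eq_zero.mpr h
    rw [← hx, Away.map_mk ψ f hf, away_mk_eq_zero_iff] at h0
    obtain ⟨k, hk⟩ := h0
    rw [← map_pow, ← map_mul, hψA] at hk
    obtain ⟨⟨_, l, rfl⟩, hl⟩ := (IsLocalization.map_eq_zero_iff (Submonoid.powers g) B _).mp hk
    refine ⟨l, sub_eq_zero.mp ?_⟩
    rw [← mul_sub, ← hx]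
    apply HomogeneousLocalization.val_injective
    rw [HomogeneousLocalization.val_mul, HomogeneousLocalization.val_pow, Away.val_mk, Away.val_mk,
      Localization.mk_pow, Localization.mk_mul, HomogeneousLocalization.val_zero, Localization.mk_eq_mk',
      IsLocalization.mk'_eq_zero_iff]
    exact ⟨⟨f ^ k, k, rfl⟩, by linear_combination hl⟩

include hg hψA hdeg in
lemma isOpenImmersion_map : IsOpenImmersion (Proj.map ψ hψ) := by
  refine map_property ψ hψ (P := @IsOpenImmersion) fun _ f hd hf => ?_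
  let _ : Algebra (Away 𝒜 f) (Away ℬ (ψ f)) := (Away.map ψ f).toAlgebra
  have := isLocalization_gElem ψ hg hψA hdeg hf
  exact IsOpenImmersion.of_isLocalization (gElem hg hf) (S := Away ℬ (ψ f))

include hψA hdeg in
lemma range_map : Set.range (Proj.map ψ hψ).base =
    (Proj.toSpecZero 𝒜).base ⁻¹' (PrimeSpectrum.basicOpen (⟨g, hg⟩ : 𝒜 0) : Set (PrimeSpectrum (𝒜 0))) := by
  ext x
  obtain ⟨i, z, rfl⟩ := (Proj.affineOpenCover 𝒜).openCover.exists_eq x
  obtain ⟨d, f⟩ := i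
  obtain ⟨d, hd⟩ := d
  obtain ⟨f, hf⟩ := f
  let _ : Algebra (Away 𝒜 f) (Away ℬ (ψ f)) := (Away.map ψ f).toAlgebra
  have := isLocalization_gElem ψ hg hψA hdeg hf
  have hr : Set.range (PrimeSpectrum.comap (algebraMap (Away 𝒜 f) (Away ℬ (ψ f)))) =
      PrimeSpectrum.basicOpen (gElem hg hf) := PrimeSpectrum.localization_away_comap_range _ _
  have hpb := isPullback_map_awayι ψ hψ hd f hf
  change Proj.awayι 𝒜 f hf hd z ∈ Set.range (Proj.map ψ hψ) ↔
    Proj.toSpecZero 𝒜 (Proj.awayι 𝒜 f hf hd z) ∈ PrimeSpectrum.basicOpen (⟨g, hg⟩ : 𝒜 0)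
  rw [← Scheme.Hom.comp_apply (Proj.awayι 𝒜 f hf hd) (Proj.toSpecZero 𝒜), Proj.awayι_toSpecZero]
  have hz : (Proj.awayι 𝒜 f hf hd z ∈ Set.range (Proj.map ψ hψ)) ↔
      z ∈ Set.range (Spec.map (CommRingCat.ofHom (Away.map ψ f))) := by
    constructor
    · rintro ⟨y, hy⟩
      obtain ⟨w, -, hw⟩ := Scheme.exists_preimage_of_isPullback hpb y z hy
      exact ⟨w, hw⟩
    · rintro ⟨w, rfl⟩
      exact ⟨Proj.awayι ℬ (ψ f) (ψ.map_mem hf) hd w,
        (Scheme.Hom.comp_apply _ _ w).symm.trans (congr($(hpb.w) w) |>.trans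
          (Scheme.Hom.comp_apply _ _ w))⟩
  rw [hz]
  refine (Set.ext_iff.mp hr z).trans ?_
  have e : fromZeroRingHom 𝒜 (Submonoid.powers f) ⟨g, hg⟩ = gElem hg hf := by
    apply HomogeneousLocalization.val_injective
    simp [fromZeroRingHom, Away.val_mk, HomogeneousLocalization.val_mk]
  exact Iff.of_eq (congrArg (fun u => u ∉ z.asIdeal) e.symm)

include hg hψA hdeg in
lemma isIso_comap_adjunct_of_localization (n : ℤ) :
    IsIso (((Scheme.Modules.pullbackPushforwardAdjunction (Proj.map ψ hψ)).homEquiv _ _).symm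
      (GrTwist.comap ψ hψ n)) := by
  have := isOpenImmersion_map ψ hψ hg hψA hdeg
  refine isIso_comap_adjunct ψ hψ (fun y i b hb => ?_) (fun y i a ha h0 => ?_) n
  · obtain ⟨k, a, ha, hka⟩ := (hdeg i b).1 hb
    refine ⟨0, g ^ k, a, by simpa using SetLike.pow_mem_graded k hg, ha, fun h => ?_, by rw [map_pow, hka]⟩
    rw [map_pow] at h
    exact psi_g_notMem (g := g) ψ hψA y (y.isPrime.mem_of_pow_mem _ h)
  · rw [hψA] at h0
    obtain ⟨⟨_, l, rfl⟩, hl⟩ := (IsLocalization.map_eq_zero_iff (Submonoid.powers g) B _).mp h0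
    refine ⟨g ^ l, fun h => ?_, hl⟩
    rw [map_pow] at h
    exact psi_g_notMem (g := g) ψ hψA y (y.isPrime.mem_of_pow_mem _ h)

end Localization

end Groth.Agent.PEvBij8
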