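import Groth.Agent.ProjLib.PConeLemmas
import Groth.Agent.ProjLib.NatTensor

/-!
# Eventually bijective graded homomorphisms induce isomorphisms of `Proj`
-/

set_option autoImplicit false
set_option backward.isDefEq.respectTransparency.types false

namespace Groth.Agent.PEvBij8

open CategoryTheory CategoryTheory.Limits AlgebraicGeometry HomogeneousLocalization TopologicalSpace
open Groth.Agent.ProjLib

universe u

variable {R A B : Type u} [CommRing R] [CommRing A] [Algebra R A] {𝒜 : ℕ → Submodule R A}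
  [GradedAlgebra 𝒜] [CommRing B] [Algebra R B] {ℬ : ℕ → Submodule R B} [GradedAlgebra ℬ]
  (φ : 𝒜 →+*ᵍ ℬ) (d₀ : ℕ) (hbij : ∀ d : ℕ, d₀ ≤ d → Set.BijOn φ (𝒜 d) (ℬ d))

include hbij in
lemma away_map_bijective_of_bijOn {d : ℕ} (hd : 0 < d) {s : A} (hs : s ∈ 𝒜 d) :
    Function.Bijective (Away.map φ s : Away 𝒜 s →+* Away ℬ (φ s)) := by
  refine ⟨away_map_injective_of_eventually φ hd hs d₀ fun n hn a ha h0 =>
    (hbij n hn).injOn ha (zero_mem (𝒜 n)) (h0.trans (map_zero φ).symm), fun y => ?_⟩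
  obtain ⟨n, b, hb, rfl⟩ := Away.mk_surjective ℬ (show φ s ∈ ℬ _ from φ.2 hs) y
  obtain ⟨a, ha, hab⟩ := (hbij ((n + d₀) * d)
      (le_trans (Nat.le_mul_of_pos_right _ hd) (Nat.mul_le_mul_right d (Nat.le_add_left _ _)))).surjOn
    (show b * φ s ^ d₀ ∈ ℬ ((n + d₀) * d) by
      have := SetLike.mul_mem_graded hb (SetLike.pow_mem_graded d₀ (show φ s ∈ ℬ _ from φ.2 hs))
      simpa [Nat.add_mul] using this)
  refine ⟨Away.mk 𝒜 hs (n + d₀) a (by simpa using ha), ?_⟩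
  ext
  rw [Away.map_mk φ s hs, Away.val_mk, Away.val_mk, Localization.mk_eq_mk_iff,
    Localization.r_iff_exists]
  exact ⟨1, by simp [hab]; ring⟩

include hbij in
lemma dom_eq_top : PCone.dom φ = ⊤ := by
  rw [eq_top_iff]
  intro x _
  obtain ⟨i, hi⟩ := (Proj.affineOpenCover ℬ).openCover.exists_eq x
  have hx : x ∈ Proj.basicOpen ℬ (i.2 : B) := by
    rw [← Proj.opensRange_awayι ℬ _ i.2.2 i.1.2]
    exact hi
  obtain ⟨a, ha, hab⟩ := (hbij ((d₀ + 1) * i.1) (le_trans (Nat.le_succ d₀)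
    (Nat.le_mul_of_pos_right _ i.1.2))).surjOn
    (show (i.2 : B) ^ (d₀ + 1) ∈ ℬ ((d₀ + 1) * i.1) from by
      simpa using SetLike.pow_mem_graded (d₀ + 1) i.2.2)
  refine Opens.mem_iSup.mpr ⟨⟨a, _, Nat.mul_pos (Nat.succ_pos d₀) i.1.2, ha⟩, ?_⟩
  change x ∈ Proj.basicOpen ℬ (φ a)
  rw [hab, Proj.basicOpen_pow _ _ _ (Nat.succ_pos d₀)]
  exact hx

include hbij in
lemma isIso_of_chart (r : (PCone.dom φ : Scheme.{u}) ⟶ Proj 𝒜)
    (hr : ∀ (d : ℕ) (f : A) (hd : 0 < d) (hf : f ∈ 𝒜 d), PCone.chart φ hf hd ≫ r =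
      Spec.map (CommRingCat.ofHom (Away.map φ f)) ≫ Proj.awayι 𝒜 f hf hd) : IsIso r := by
  refine IsZariskiLocalAtTarget.of_openCover (P := MorphismProperty.isomorphisms Scheme)
    (Proj.affineOpenCover 𝒜).openCover fun i => ?_
  have hpb : IsPullback (PCone.chart φ i.2.2 i.1.2)
      (Spec.map (CommRingCat.ofHom (Away.map φ (i.2 : A)))) r
      (Proj.awayι 𝒜 (i.2 : A) i.2.2 i.1.2) := by
    have := chart_isOpenImmersion φ i.2.2 i.1.2
    refine ((IsOpenImmersion.isPullback _ _ _ _ (hr _ _ i.1.2 i.2.2) ?_)).flip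
    rw [Proj.opensRange_awayι]
    exact preimage_basicOpen_of_chart φ r hr i.2.2 i.1.2
  have : IsIso (CommRingCat.ofHom (Away.map φ (i.2 : A) : Away 𝒜 (i.2 : A) →+* Away ℬ (φ i.2))) := by
    rw [ConcreteCategory.isIso_iff_bijective]
    exact away_map_bijective_of_bijOn φ d₀ hbij i.1.2 i.2.2
  refine ((MorphismProperty.isomorphisms Scheme).cancel_left_of_respectsIso hpb.isoPullback.hom _).mp ?_
  rw [MorphismProperty.isomorphisms.iff]
  change IsIso (hpb.isoPullback.hom ≫ pullback.snd _ _)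
  rw [hpb.isoPullback_hom_snd]
  infer_instance

end Groth.Agent.PEvBij8
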