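import Groth.Agent.ProjLib.VeroneseProj
import Groth.Agent.PEvBij8.Adjunct
import Groth.Prelude.Def_Twist2

/-!
# `O(nd)` on `Proj S` is the pullback of `O(n)` on `Proj S^(d)`
-/

set_option autoImplicit false
set_option backward.isDefEq.respectTransparency.types false

namespace Groth.Agent.PEvBij8

open CategoryTheory AlgebraicGeometry TopologicalSpace Opposite HomogeneousLocalization
open Groth.Agent.ProjLib

universe u

noncomputable section

variable {R A : Type u} [CommRing R] [CommRing A] [Algebra R A] {𝒜 : ℕ → Submodule R A}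
  [GradedAlgebra 𝒜] {B : Type u} [CommRing B] [Algebra R B] {ℬ : ℕ → Submodule R B}
  [GradedAlgebra ℬ] {d : ℕ} (hd : 0 < d) (φ : B →ₐ[R] A)
  (hdeg : ∀ n : ℕ, Submodule.map φ.toLinearMap (ℬ n) = 𝒜 (n * d))

theorem exists_frac {n : ℤ} {x : ProjectiveSpectrum 𝒜} {q : Twist.Loc 𝒜 x}
    (hq : q ∈ Twist.twistAt 𝒜 n x) :
    ∃ (i j : ℕ) (a : 𝒜 i) (s : 𝒜 j) (hs : (s : A) ∉ x.asHomogeneousIdeal),
      ((i : ℤ) = j + n ∨ (a : A) = 0) ∧ q = Localization.mk (a : A) ⟨s, hs⟩ := by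
  induction hq using Submodule.span_induction with
  | mem q h =>
    obtain ⟨i, j, a, s, hs, hij, rfl⟩ := h
    exact ⟨i, j, a, s, hs, Or.inl hij, rfl⟩
  | zero =>
    exact ⟨0, 0, 0, ⟨1, SetLike.GradedOne.one_mem⟩,
      fun h => x.isPrime.ne_top ((Ideal.eq_top_iff_one _).mpr h), Or.inr rfl,
      by simp [Localization.mk_zero]⟩
  | add q q' _ _ h h' =>
    obtain ⟨i, j, a, s, hs, ha, rfl⟩ := h
    obtain ⟨i', j', b, t, ht, hb, rfl⟩ := h'
    rcases eq_or_ne (a : A) 0 with h0 | h0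
    · refine ⟨i', j', b, t, ht, hb, ?_⟩
      rw [h0, Localization.mk_zero, zero_add]
    rcases eq_or_ne (b : A) 0 with h1 | h1
    · refine ⟨i, j, a, s, hs, ha, ?_⟩
      rw [h1, Localization.mk_zero, add_zero]
    have ha' := ha.resolve_right h0
    have hb' := hb.resolve_right h1
    have e : j' + i = j + i' := by omega
    refine ⟨j + i', j + j', ⟨s * b + t * a, add_mem (SetLike.mul_mem_graded s.2 b.2)
        (e ▸ SetLike.mul_mem_graded t.2 a.2)⟩, ⟨s * t, SetLike.mul_mem_graded s.2 t.2⟩,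
      fun h => (x.isPrime.mem_or_mem h).elim hs ht, Or.inl (by push_cast; omega), ?_⟩
    rw [Localization.add_mk]
    rfl
  | smul c q _ h =>
    obtain ⟨i, j, a, s, hs, ha, rfl⟩ := h
    obtain ⟨⟨k, ⟨r, hr⟩, ⟨t, ht⟩, htx⟩, rfl⟩ := HomogeneousLocalization.mk_surjective c
    refine ⟨k + i, k + j, ⟨r * a, SetLike.mul_mem_graded hr a.2⟩,
      ⟨t * s, SetLike.mul_mem_graded ht s.2⟩, fun h => (x.isPrime.mem_or_mem h).elim htx hs, ?_, ?_⟩
    · rcases ha with ha | ha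
      · exact Or.inl (by push_cast; omega)
      · exact Or.inr (show r * a = 0 by rw [ha, mul_zero])
    · rw [Algebra.smul_def, HomogeneousLocalization.algebraMap_apply, HomogeneousLocalization.val_mk,
        Localization.mk_mul]
      rfl

/-- The canonical map of localisations. -/
def vLoc (y : Proj 𝒜) : Twist.Loc ℬ ((veroneseHom hd φ hdeg).base y) →+* Twist.Loc 𝒜 y :=
  Localization.localRingHom _ _ φ.toRingHom (veroneseHom_apply hd φ hdeg y)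

lemma vLoc_mk (y : Proj 𝒜) (a : B) (s : B)
    (hs : s ∉ ((veroneseHom hd φ hdeg).base y).asHomogeneousIdeal) :
    vLoc hd φ hdeg y (Localization.mk a ⟨s, hs⟩) = Localization.mk (φ a)
      (⟨φ s, fun h => hs ((SetLike.ext_iff.mp (veroneseHom_apply hd φ hdeg y) s).mpr h)⟩ :
        y.asHomogeneousIdeal.toIdeal.primeCompl) := by
  rw [Localization.mk_eq_mk', Localization.mk_eq_mk']
  exact Localization.localRingHom_mk' _ _ _ _ a ⟨s, hs⟩

lemma appLE_awayToSection {e : ℕ} (he : 0 < e) {g : B} (hg : g ∈ ℬ e) :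
    Proj.awayToSection ℬ g ≫ (veroneseHom hd φ hdeg).appLE (Proj.basicOpen ℬ g)
        (Proj.basicOpen 𝒜 (φ g)) (veroneseHom_preimage hd φ hdeg he hg).ge =
      CommRingCat.ofHom (veroneseAway φ hdeg hg) ≫ Proj.awayToSection 𝒜 (φ g) := by
  have h := awayι_veroneseHom hd φ hdeg he hg
  rw [veroneseChart, Proj.awayι, Proj.awayι, Category.assoc] at h
  rw [← Scheme.Hom.resLE_comp_ι _ (veroneseHom_preimage hd φ hdeg he hg).ge, ← Category.assoc,
    ← Category.assoc, cancel_mono, Iso.inv_comp_eq, ← Category.assoc, Iso.eq_comp_inv,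
    Proj.basicOpenIsoSpec_hom, Proj.basicOpenIsoSpec_hom] at h
  have h' := congrArg (fun k => Scheme.Hom.app k ⊤ ≫ (Proj.basicOpen 𝒜 (φ g)).topIso.hom) h
  simp [Proj.basicOpenToSpec_app_top, Scheme.Hom.comp_app] at h'
  exact h'

lemma app_val (U : (Proj ℬ).Opens) (r : Twist.O (𝒜 := ℬ) (op U))
    (y : (veroneseHom hd φ hdeg ⁻¹ᵁ U : (Proj 𝒜).Opens)) :
    (((veroneseHom hd φ hdeg).app U r : Twist.O (𝒜 := 𝒜) (op (veroneseHom hd φ hdeg ⁻¹ᵁ U))).1 y).val =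
      vLoc hd φ hdeg y.1 ((r.1 ⟨_, y.2⟩).val) := by
  classical
  set x := (veroneseHom hd φ hdeg).base y.1 with hxdef
  obtain ⟨-, ⟨h, rfl⟩, hxh, hhU⟩ :=
    (ProjectiveSpectrum.isTopologicalBasis_basic_opens ℬ).exists_subset_of_mem_open
      (show x ∈ (U : Set _) from y.2) U.2
  obtain ⟨k, hk⟩ : ∃ k, (DirectSum.decompose ℬ h k : B) ∉ x.asHomogeneousIdeal := by
    by_contra! hcon
    exact hxh (by
      rw [← DirectSum.sum_support_decompose ℬ h]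
      exact Ideal.sum_mem _ fun k _ => hcon k)
  obtain ⟨j, t, hj, ht, htx⟩ : ∃ j, ∃ t, 0 < j ∧ t ∈ ℬ j ∧ t ∉ x.asHomogeneousIdeal.toIdeal := by
    by_contra! hcon
    exact x.not_irrelevant_le
      ((HomogeneousIdeal.toIdeal_irrelevant_le ℬ).mpr fun j hj t ht => hcon j t hj ht)
  let g : B := (DirectSum.decompose ℬ h k : B) * t
  have hg : g ∈ ℬ (k + j) := SetLike.mul_mem_graded (DirectSum.decompose ℬ h k).2 ht
  have hgU : Proj.basicOpen ℬ g ≤ U := fun z hz => hhU fun hc =>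
    hz (Ideal.mul_mem_right _ _ (z.asHomogeneousIdeal.isHomogeneous k hc))
  have hxg : x ∈ Proj.basicOpen ℬ g := fun hc => (x.isPrime.mem_or_mem hc).elim hk htx
  have hpre := (veroneseHom_preimage hd φ hdeg (Nat.add_pos_right k hj) hg).ge
  have hyg : y.1 ∈ Proj.basicOpen 𝒜 (φ g) := by
    rw [← veroneseHom_preimage hd φ hdeg (Nat.add_pos_right k hj) hg]; exact hxg
  obtain ⟨z, hz⟩ := ((ConcreteCategory.isIso_iff_bijective
    (Proj.basicOpenIsoAway ℬ g hg (Nat.add_pos_right k hj)).hom).mp inferInstance).2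
    ((Proj ℬ).presheaf.map (homOfLE hgU).op r)
  have e1 : (veroneseHom hd φ hdeg).appLE (Proj.basicOpen ℬ g) (Proj.basicOpen 𝒜 (φ g)) hpre
      ((Proj ℬ).presheaf.map (homOfLE hgU).op r) =
      (Proj 𝒜).presheaf.map (homOfLE (hpre.trans ((veroneseHom hd φ hdeg).preimage_mono hgU))).op
        ((veroneseHom hd φ hdeg).app U r) := by
    rw [← CommRingCat.comp_apply, Scheme.Hom.map_appLE]
    rfl
  have e2 : (veroneseHom hd φ hdeg).appLE (Proj.basicOpen ℬ g) (Proj.basicOpen 𝒜 (φ g)) hpre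
      (Proj.awayToSection ℬ g z) = Proj.awayToSection 𝒜 (φ g) (veroneseAway φ hdeg hg z) :=
    congr($(appLE_awayToSection hd φ hdeg (Nat.add_pos_right k hj) hg) z)
  have hz' : Proj.awayToSection ℬ g z = (Proj ℬ).presheaf.map (homOfLE hgU).op r := hz
  rw [hz', e1] at e2
  obtain ⟨m, b, hb, rfl⟩ := Away.mk_surjective ℬ hg z
  rw [veroneseAway_mk φ hdeg] at e2
  have ey := congrArg (fun s : Twist.O (𝒜 := 𝒜) (op (Proj.basicOpen 𝒜 (φ g))) => (s.1 ⟨y.1, hyg⟩).val) e2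
  have ex := congrArg (fun s : Twist.O (𝒜 := ℬ) (op (Proj.basicOpen ℬ g)) => (s.1 ⟨x, hxg⟩).val) hz'
  refine ey.trans ?_
  refine Eq.trans ?_ (congrArg (vLoc hd φ hdeg y.1) ex)
  have hzx : ((Proj.awayToSection ℬ g (Away.mk ℬ hg m b hb) :
      Twist.O (𝒜 := ℬ) (op (Proj.basicOpen ℬ g))).1 ⟨x, hxg⟩).val =
      Localization.mk b (⟨g ^ m, fun hc => hxg (x.isPrime.mem_of_pow_mem _ hc)⟩ : x.asHomogeneousIdeal.toIdeal.primeCompl) := rfl
  have hzy : ∀ c hc, ((Proj.awayToSection 𝒜 (φ g) (Away.mk 𝒜 (veronese_mem 𝒜 ℬ φ hdeg hg) m c hc) :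
      Twist.O (𝒜 := 𝒜) (op (Proj.basicOpen 𝒜 (φ g)))).1 ⟨y.1, hyg⟩).val =
      Localization.mk c (⟨φ g ^ m, fun hc => hyg (y.1.isPrime.mem_of_pow_mem _ hc)⟩ : y.1.asHomogeneousIdeal.toIdeal.primeCompl) := fun c hc => rfl
  exact (hzy _ _).trans (Eq.trans (by simp [map_pow]) ((congrArg _ hzx).trans (vLoc_mk ..)).symm)

lemma vLoc_mem (n : ℤ) (y : Proj 𝒜) {q : Twist.Loc ℬ ((veroneseHom hd φ hdeg).base y)}
    (hq : q ∈ Twist.twistAt ℬ n ((veroneseHom hd φ hdeg).base y)) :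
    vLoc hd φ hdeg y q ∈ Twist.twistAt 𝒜 (n * d) y := by
  obtain ⟨i, j, a, s, hs, hn, rfl⟩ := exists_frac hq
  rw [vLoc_mk]
  rcases hn with h | h
  · refine Submodule.subset_span ⟨i * d, j * d, ⟨φ a, veronese_mem 𝒜 ℬ φ hdeg a.2⟩,
      ⟨φ s, veronese_mem 𝒜 ℬ φ hdeg s.2⟩, fun hc => hs
      ((SetLike.ext_iff.mp (veroneseHom_apply hd φ hdeg y) (s : B)).mpr hc), ?_, rfl⟩
    push_cast
    rw [h]; ring
  · rw [h, map_zero, Localization.mk_zero]; exact zero_mem _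

variable (n : ℤ)

/-- The map on dependent functions. -/
def vFun (U : (Proj ℬ).Opens) (s : ∀ x : U, Twist.twistAt ℬ n x.1)
    (y : (veroneseHom hd φ hdeg ⁻¹ᵁ U : (Proj 𝒜).Opens)) : Twist.twistAt 𝒜 (n * d) y.1 :=
  ⟨vLoc hd φ hdeg y.1 (s ⟨(veroneseHom hd φ hdeg).base y.1, y.2⟩).1,
    vLoc_mem hd φ hdeg n y.1 (s ⟨(veroneseHom hd φ hdeg).base y.1, y.2⟩).2⟩

lemma isLocFracN_vFun (U : (Proj ℬ).Opens) (s : Twist.sectN (𝒜 := ℬ) n (op U)) :
    (Twist.isLocFracN 𝒜 (n * d)).pred (vFun hd φ hdeg n U s.1) := by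
  rintro ⟨y, hy⟩
  rcases s.2 ⟨(veroneseHom hd φ hdeg).base y, hy⟩ with ⟨W, m, iWU, i, j, a, b, hb, hij, hfrac⟩
  refine ⟨veroneseHom hd φ hdeg ⁻¹ᵁ W, m, homOfLE fun z hz => iWU.le hz, i * d, j * d,
    ⟨φ a, veronese_mem 𝒜 ℬ φ hdeg a.2⟩, ⟨φ b, veronese_mem 𝒜 ℬ φ hdeg b.2⟩, fun z hc => hb ⟨_, z.2⟩
      ((SetLike.ext_iff.mp (veroneseHom_apply hd φ hdeg z.1) (b : B)).mpr hc), ?_, fun z => ?_⟩
  · rcases hij with h | h
    · left
      push_cast
      rw [h]; ring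
    · exact Or.inr (show φ (a : B) = 0 by rw [h, map_zero])
  · exact (congrArg (vLoc hd φ hdeg z.1) (hfrac ⟨_, z.2⟩)).trans (vLoc_mk hd φ hdeg _ _ _ _)

/-- The map on sections. -/
def vApp (U : (Proj ℬ).Opens) :
    Twist.sectN (𝒜 := ℬ) n (op U) →+
      Twist.sectN (𝒜 := 𝒜) (n * d) (op (veroneseHom hd φ hdeg ⁻¹ᵁ U)) where
  toFun s := ⟨vFun hd φ hdeg n U s.1, isLocFracN_vFun hd φ hdeg n U s⟩
  map_zero' := Subtype.ext (funext fun y => Subtype.ext (map_zero (vLoc hd φ hdeg y.1)))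
  map_add' s t := Subtype.ext (funext fun y => Subtype.ext (map_add (vLoc hd φ hdeg y.1) _ _))

lemma vApp_smul (U : (Proj ℬ).Opens) (r : Twist.O (𝒜 := ℬ) (op U))
    (s : Twist.sectN (𝒜 := ℬ) n (op U)) :
    vApp hd φ hdeg n U (r • s) =
      (id ((veroneseHom hd φ hdeg).app U r) : Twist.O (𝒜 := 𝒜) (op (veroneseHom hd φ hdeg ⁻¹ᵁ U))) •
        vApp hd φ hdeg n U s := by
  refine Subtype.ext (funext fun y => Subtype.ext ?_)
  refine Eq.trans ?_ (Twist.coe_smul_val _ y.1 _ _).symm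
  refine Eq.trans ?_ (congrArg (· * _) (app_val hd φ hdeg U r y)).symm
  exact (congrArg (vLoc hd φ hdeg y.1) (Twist.coe_smul_val n _ _ _)).trans (map_mul _ _ _)

/-- `O(n) ⟶ i_* O(nd)`. -/
def vMap : Twist.twist ℬ n ⟶
    (Scheme.Modules.pushforward (veroneseHom hd φ hdeg)).obj (Twist.twist 𝒜 (n * d)) :=
  ⟨PresheafOfModules.homMk
    { app := fun U => AddCommGrpCat.ofHom (vApp hd φ hdeg n U.unop)
      naturality := fun _ _ _ => rfl }
    fun U r s => vApp_smul hd φ hdeg n U.unop r s⟩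

lemma vLoc_eq_zero (hφ : Function.Injective φ) (y : Proj 𝒜)
    {q : Twist.Loc ℬ ((veroneseHom hd φ hdeg).base y)}
    (hq : q ∈ Twist.twistAt ℬ n ((veroneseHom hd φ hdeg).base y))
    (h0 : vLoc hd φ hdeg y q = 0) : q = 0 := by
  classical
  obtain ⟨i, j, ⟨a, ha⟩, ⟨s, hs'⟩, hs, -, rfl⟩ := exists_frac hq
  rw [vLoc_mk, Localization.mk_eq_mk', IsLocalization.mk'_eq_zero_iff] at h0
  obtain ⟨⟨t, ht⟩, hta⟩ := h0
  replace hta : t * φ a = 0 := hta
  have hmem : φ a ∈ 𝒜 (i * d) := veronese_mem 𝒜 ℬ φ hdeg ha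
  obtain ⟨k, hk⟩ : ∃ k, (DirectSum.decompose 𝒜 t k : A) ∉ y.asHomogeneousIdeal := by
    by_contra! hcon
    exact ht (by
      rw [← DirectSum.sum_support_decompose 𝒜 t]
      exact Ideal.sum_mem _ fun k _ => hcon k)
  have htk : (DirectSum.decompose 𝒜 t k : A) * φ a = 0 := by
    rw [← DirectSum.coe_decompose_mul_add_of_right_mem (i := k) 𝒜 hmem, hta, DirectSum.decompose_zero]
    rfl
  obtain ⟨b, hb, hbt⟩ := veronese_surj 𝒜 ℬ φ hdeg (n := k)
    (a := (DirectSum.decompose 𝒜 t k : A) ^ d)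
    (by simpa [mul_comm] using SetLike.pow_mem_graded d (DirectSum.decompose 𝒜 t k).2)
  rw [Localization.mk_eq_mk', IsLocalization.mk'_eq_zero_iff]
  refine ⟨⟨b, fun hc => ?_⟩, hφ ?_⟩
  · have hc' := (SetLike.ext_iff.mp (veroneseHom_apply hd φ hdeg y) b).mp hc
    rw [Ideal.mem_comap, hbt] at hc'
    exact hk (y.isPrime.mem_of_pow_mem _ hc')
  · obtain ⟨d', rfl⟩ : ∃ d', d = d' + 1 := ⟨d - 1, by omega⟩
    rw [map_mul, hbt, pow_succ, mul_assoc, map_zero]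
    exact mul_eq_zero_of_right _ htk

lemma vLoc_injOn (hφ : Function.Injective φ) (y : Proj 𝒜)
    {q q' : Twist.Loc ℬ ((veroneseHom hd φ hdeg).base y)}
    (hq : q ∈ Twist.twistAt ℬ n ((veroneseHom hd φ hdeg).base y))
    (hq' : q' ∈ Twist.twistAt ℬ n ((veroneseHom hd φ hdeg).base y))
    (h : vLoc hd φ hdeg y q = vLoc hd φ hdeg y q') : q = q' :=
  sub_eq_zero.mp (vLoc_eq_zero hd φ hdeg n hφ y (sub_mem hq hq') (by rw [map_sub, h, sub_self]))

include hd hdeg in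
lemma exists_vfrac_lift (y : Proj 𝒜) {i j : ℕ} (b : 𝒜 i) (t : 𝒜 j)
    (ht : (t : A) ∉ y.asHomogeneousIdeal) (hn : (i : ℤ) = j + n * d ∨ (b : A) = 0) :
    ∃ (i' j' : ℕ) (a : ℬ i') (s : ℬ j'), φ (s : B) ∉ y.asHomogeneousIdeal ∧
      ((i' : ℤ) = j' + n ∨ (a : B) = 0) ∧ φ (s : B) * (b : A) = (t : A) * φ (a : B) := by
  obtain ⟨s, hs, hst⟩ := veronese_surj 𝒜 ℬ φ hdeg (n := j) (a := (t : A) ^ d)
    (by simpa [mul_comm] using SetLike.pow_mem_graded d t.2)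
  have hsy : φ s ∉ y.asHomogeneousIdeal := by
    rw [hst]
    exact fun h => ht (y.isPrime.mem_of_pow_mem _ h)
  rcases eq_or_ne (b : A) 0 with hb | hb
  · exact ⟨0, j, 0, ⟨s, hs⟩, hsy, Or.inr rfl, by simp [hb]⟩
  have hn' := hn.resolve_right hb
  obtain ⟨d', rfl⟩ : ∃ d', d = d' + 1 := ⟨d - 1, by omega⟩
  obtain ⟨m, hm⟩ : ∃ m : ℕ, (m : ℤ) = j + n := by
    refine ⟨((j : ℤ) + n).toNat, Int.toNat_of_nonneg ?_⟩
    by_contra hcon
    push_cast at hn'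
    nlinarith
  have hdegm : i + d' * j = m * (d' + 1) := by
    have : ((i + d' * j : ℕ) : ℤ) = (m * (d' + 1) : ℕ) := by
      push_cast at hn' ⊢
      rw [hn', hm]; ring
    exact_mod_cast this
  obtain ⟨a, ha, hat⟩ := veronese_surj 𝒜 ℬ φ hdeg (n := m) (a := (b : A) * (t : A) ^ d')
    (hdegm ▸ SetLike.mul_mem_graded b.2 (by simpa using SetLike.pow_mem_graded d' t.2))
  exact ⟨m, j, ⟨a, ha⟩, ⟨s, hs⟩, hsy, Or.inl hm, by simp only [hst, hat]; ring⟩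

lemma vMap_app_bijective (hφ : Function.Injective φ) (U : (Proj ℬ).Opens) :
    Function.Bijective ((vMap hd φ hdeg n).app U) := by
  have hiso := veroneseHom_isIso hd φ hdeg hφ
  have hinj : Function.Injective (veroneseHom hd φ hdeg).base :=
    (veroneseHom hd φ hdeg).isOpenEmbedding.injective
  have hrange : ∀ x : U, ∃ y : Proj 𝒜, (veroneseHom hd φ hdeg).base y = x.1 := fun x =>
    (veroneseHom hd φ hdeg).surjective x.1
  constructor
  · intro s s' h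
    refine Subtype.ext (funext fun x => Subtype.ext ?_)
    obtain ⟨y, hy⟩ := hrange x
    obtain ⟨x, hx⟩ := x
    obtain rfl : (veroneseHom hd φ hdeg).base y = x := hy
    have e := congrArg (fun r : Twist.sectN (𝒜 := 𝒜) (n * d) (op (veroneseHom hd φ hdeg ⁻¹ᵁ U)) =>
      ((r.1 ⟨y, hx⟩ : _) : Twist.Loc 𝒜 y)) h
    exact vLoc_injOn hd φ hdeg n hφ y (s.1 ⟨_, hx⟩).2 (s'.1 ⟨_, hx⟩).2 e
  · intro t
    have hpt : ∀ x : U, ∃ q : Twist.twistAt ℬ n x.1, ∀ (y : Proj 𝒜)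
        (hy : (veroneseHom hd φ hdeg).base y = x.1),
        vLoc hd φ hdeg y (hy.symm ▸ q : Twist.twistAt ℬ n ((veroneseHom hd φ hdeg).base y)).1 =
          ((t : Twist.sectN (𝒜 := 𝒜) (n * d) (op (veroneseHom hd φ hdeg ⁻¹ᵁ U))).1
            ⟨y, (congrArg (· ∈ U) hy).mpr x.2⟩).1 := by
      intro x
      obtain ⟨y, hy⟩ := hrange x
      obtain ⟨x, hx⟩ := x
      obtain rfl : (veroneseHom hd φ hdeg).base y = x := hy
      obtain ⟨W, hW, iW, i, j, b, s, hs, hn, hfrac⟩ :=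
        (t : Twist.sectN (𝒜 := 𝒜) (n * d) (op (veroneseHom hd φ hdeg ⁻¹ᵁ U))).2 ⟨y, hx⟩
      obtain ⟨i', j', a, s', hs', hn', heq⟩ := exists_vfrac_lift hd φ hdeg n y b s (hs ⟨y, hW⟩) hn
      have hsx : (s' : B) ∉ ((veroneseHom hd φ hdeg).base y).asHomogeneousIdeal := fun hc =>
        hs' ((SetLike.ext_iff.mp (veroneseHom_apply hd φ hdeg y) _).mp hc)
      have hmem : Localization.mk (a : B) ⟨(s' : B), hsx⟩ ∈
          Twist.twistAt ℬ n ((veroneseHom hd φ hdeg).base y) := by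
        rcases hn' with h | h
        · exact Submodule.subset_span ⟨i', j', a, s', hsx, h, rfl⟩
        · rw [h, Localization.mk_zero]; exact zero_mem _
      refine ⟨⟨_, hmem⟩, fun y' hy' => ?_⟩
      obtain rfl : y' = y := hinj hy'
      refine (vLoc_mk hd φ hdeg _ _ _ _).trans (Eq.trans ?_ (hfrac ⟨y', hW⟩).symm)
      rw [Localization.mk_eq_mk_iff, Localization.r_iff_exists]
      exact ⟨1, by simpa [mul_comm] using heq.symm⟩
    choose q hq using hpt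
    refine ⟨(⟨q, ?_⟩ : Twist.sectN (𝒜 := ℬ) n (op U)),
      Subtype.ext (funext fun y => Subtype.ext (hq ⟨_, y.2⟩ y.1 rfl))⟩
    intro x
    obtain ⟨y, hy⟩ := hrange x
    obtain ⟨x, hx⟩ := x
    obtain rfl : (veroneseHom hd φ hdeg).base y = x := hy
    obtain ⟨W, hW, iW, i, j, b, s, hs, hn, hfrac⟩ :=
      (t : Twist.sectN (𝒜 := 𝒜) (n * d) (op (veroneseHom hd φ hdeg ⁻¹ᵁ U))).2 ⟨y, hx⟩
    obtain ⟨i', j', a, s', hs', hn', heq⟩ := exists_vfrac_lift hd φ hdeg n y b s (hs ⟨y, hW⟩) hn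
    let W' : (Proj 𝒜).Opens := W ⊓ Proj.basicOpen 𝒜 (φ (s' : B))
    have hW'U : ∀ z : (veroneseHom hd φ hdeg ''ᵁ W' : (Proj ℬ).Opens), z.1 ∈ U := by
      rintro ⟨_, z, hz, rfl⟩
      exact iW.le hz.1
    refine ⟨veroneseHom hd φ hdeg ''ᵁ W', ⟨y, ⟨hW, hs'⟩, rfl⟩, homOfLE fun z hz => hW'U ⟨z, hz⟩,
      i', j', a, s', ?_, hn', ?_⟩
    · rintro ⟨_, z, hz, rfl⟩ hc
      exact hz.2 ((SetLike.ext_iff.mp (veroneseHom_apply hd φ hdeg z) _).mp hc)
    · rintro ⟨_, z, hz, rfl⟩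
      change ((q ⟨(veroneseHom hd φ hdeg).base z, _⟩ : Twist.twistAt ℬ n _) :
        Twist.Loc ℬ ((veroneseHom hd φ hdeg).base z)) = _
      have hzU : (veroneseHom hd φ hdeg).base z ∈ U := hW'U ⟨_, z, hz, rfl⟩
      refine vLoc_injOn hd φ hdeg n hφ z (q ⟨_, hzU⟩).2 ?_
        (Eq.trans (hq ⟨_, hzU⟩ z rfl) ?_)
      · rcases hn' with h | h
        · exact Submodule.subset_span ⟨i', j', a, s', fun hc => hz.2
            ((SetLike.ext_iff.mp (veroneseHom_apply hd φ hdeg z) _).mp hc), h, rfl⟩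
        · rw [h, Localization.mk_zero]; exact zero_mem _
      · refine Eq.trans (hfrac ⟨z, hz.1⟩) (Eq.trans ?_ (vLoc_mk hd φ hdeg _ _ _ _).symm)
        rw [Localization.mk_eq_mk_iff, Localization.r_iff_exists]
        exact ⟨1, by simpa [mul_comm] using heq⟩

include hd hdeg in
theorem nonempty_twist_iso_pullback (hφ : Function.Injective φ) (e : Proj 𝒜 ≅ Proj ℬ)
    (he : e.hom = veroneseHom hd φ hdeg) :
    Nonempty (Twist.twist 𝒜 (n * d) ≅ (Scheme.Modules.pullback e.hom).obj (Twist.twist ℬ n)) := by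
  rw [he]
  have := veroneseHom_isIso hd φ hdeg hφ
  have h := isIso_adjunct_of_bijective (veroneseHom hd φ hdeg) (vMap hd φ hdeg n)
    fun U _ => vMap_app_bijective hd φ hdeg n hφ U
  exact ⟨(@asIso _ _ _ _ _ h).symm⟩

end

end Groth.Agent.PEvBij8
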